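import Mathlib.Topology.Sheaves.Functors
import Mathlib.Topology.Sheaves.Stalks
import Mathlib.Topology.Sheaves.LocalPredicate
import Mathlib.CategoryTheory.Adjunction.FullyFaithful
import Mathlib.CategoryTheory.Adjunction.Triple
import Mathlib.CategoryTheory.Limits.Types.Colimits

/-!
Sheaves of sets and embeddings of subspaces.
-/

universe u

open CategoryTheory TopologicalSpace Opposite

namespace Groth.Agent.ShSpLib

variable {Z X : TopCat.{u}} (i : Z ⟶ X)

theorem map_surjective (hi : Topology.IsInducing i) (V : Opens Z) :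
    ∃ W : Opens X, (Opens.map i).obj W = V := by
  obtain ⟨W, hW, e⟩ := hi.isOpen_iff.mp V.2
  exact ⟨⟨W, hW⟩, Opens.ext e⟩

variable {i}

theorem pushforward_faithful (hi : Topology.IsInducing i) :
    (TopCat.Sheaf.pushforward (Type u) i).Faithful := ⟨fun {G H} a b hab => by
  refine Sheaf.hom_ext (NatTrans.ext (funext fun V => ?_))
  induction V using Opposite.rec with
  | _ V =>
    obtain ⟨W, rfl⟩ := map_surjective i hi V
    exact congrArg (fun t => t.hom.app (op W)) hab⟩

theorem pushforward_full (hi : Topology.IsInducing i) :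
    (TopCat.Sheaf.pushforward (Type u) i).Full := ⟨fun {G H} c => by
  classical
  choose w hw using map_surjective i hi
  -- `c` does not depend on the chosen open of `X`
  have key : ∀ (W W' : Opens X) (h : W ≤ W') (x : G.obj.obj (op ((Opens.map i).obj W'))),
      c.hom.app (op W) (G.obj.map ((Opens.map i).map (homOfLE h)).op x) =
        H.obj.map ((Opens.map i).map (homOfLE h)).op (c.hom.app (op W') x) := fun W W' h x =>
    NatTrans.naturality_apply c.hom (homOfLE h).op x
  have comm : ∀ (W W' : Opens X) (h : (Opens.map i).obj W ≤ (Opens.map i).obj W')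
      (x : G.obj.obj (op ((Opens.map i).obj W'))),
      c.hom.app (op W) (G.obj.map (homOfLE h).op x) =
        H.obj.map (homOfLE h).op (c.hom.app (op W') x) := by
    intro W W' h x
    have hle : (Opens.map i).obj W ≤ (Opens.map i).obj (W ⊓ W') := fun z hz => ⟨hz, h hz⟩
    have e1 := key (W ⊓ W') W inf_le_left (G.obj.map (homOfLE h).op x)
    have e2 := key (W ⊓ W') W' inf_le_right x
    rw [← Functor.map_comp_apply] at e1
    have e3 : (homOfLE h).op ≫ ((Opens.map i).map (homOfLE (inf_le_left : W ⊓ W' ≤ W))).op =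
        ((Opens.map i).map (homOfLE (inf_le_right : W ⊓ W' ≤ W'))).op := Subsingleton.elim _ _
    rw [e3, e2] at e1
    have e4 := congrArg (H.obj.map (homOfLE hle).op) e1
    erw [← Functor.map_comp_apply, ← Functor.map_comp_apply] at e4
    have e5 : ((Opens.map i).map (homOfLE (inf_le_left : W ⊓ W' ≤ W))).op ≫ (homOfLE hle).op
        = 𝟙 _ := Subsingleton.elim _ _
    have e6 : ((Opens.map i).map (homOfLE (inf_le_right : W ⊓ W' ≤ W'))).op ≫ (homOfLE hle).op
        = (homOfLE h).op := Subsingleton.elim _ _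
    rw [e5, e6, H.obj.map_id] at e4
    exact e4.symm
  let a : G ⟶ H := ⟨
    { app := fun V => TypeCat.ofHom fun x : G.obj.obj V =>
        H.obj.map (eqToHom (hw V.unop).symm).op (c.hom.app (op (w V.unop))
          (G.obj.map (eqToHom (hw V.unop)).op x))
      naturality := fun V V' f => by
        refine ConcreteCategory.hom_ext _ _ fun x => ?_
        have hle : (Opens.map i).obj (w V'.unop) ≤ (Opens.map i).obj (w V.unop) := by
          rw [hw, hw]; exact f.unop.le
        show H.obj.map _ (c.hom.app _ (G.obj.map _ (G.obj.map f x))) =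
          H.obj.map f (H.obj.map _ (c.hom.app _ (G.obj.map _ x)))
        rw [← Functor.map_comp_apply, ← Functor.map_comp_apply H.obj,
          show f ≫ (eqToHom (hw V'.unop)).op = (eqToHom (hw V.unop)).op ≫ (homOfLE hle).op from
            Subsingleton.elim _ _, Functor.map_comp_apply, comm _ _ hle, ← Functor.map_comp_apply]
        exact congrArg (fun (t : _ ⟶ V') => H.obj.map t _) (Subsingleton.elim _ _) }⟩
  refine ⟨a, Sheaf.hom_ext (NatTrans.ext (funext fun V => ?_))⟩
  refine ConcreteCategory.hom_ext _ _ fun x => ?_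
  induction V using Opposite.rec with
  | _ V =>
    show H.obj.map _ (c.hom.app _ (G.obj.map _ x)) = c.hom.app (op V) x
    have hle : (Opens.map i).obj (w ((Opens.map i).obj V)) ≤ (Opens.map i).obj V := (hw _).le
    have hle' : (Opens.map i).obj V ≤ (Opens.map i).obj (w ((Opens.map i).obj V)) := (hw _).ge
    rw [show (eqToHom (hw ((Opens.map i).obj V))).op = (homOfLE hle).op from Subsingleton.elim _ _]
    erw [comm _ V hle x, ← Functor.map_comp_apply H.obj]
    refine (congrArg (fun t => H.obj.map t (c.hom.app (op V) x))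
      (Subsingleton.elim _ (𝟙 _))).trans ?_
    rw [H.obj.map_id]
    rfl⟩

/-- Sections over an open with empty preimage are unique. -/
theorem unique_of_disjoint (F : Z.Sheaf (Type u)) {W : Opens X}
    (h : ∀ z : Z, i z ∉ W) :
    Nonempty (Unique (((TopCat.Sheaf.pushforward (Type u) i).obj F).presheaf.obj (op W))) := by
  have e : (Opens.map i).obj W = ⊥ := Opens.ext (Set.eq_empty_iff_forall_notMem.mpr h)
  have : Nonempty (Unique (F.obj.obj (op ((Opens.map i).obj W)))) := by
    rw [e]
    exact ⟨(Limits.Types.isTerminalEquivUnique _) (TopCat.Sheaf.isTerminalOfEmpty F)⟩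
  exact this

theorem stalk_unique (hi : IsClosed (Set.range i)) (F : Z.Sheaf (Type u)) {x : X}
    (hx : x ∉ Set.range i) :
    Nonempty (Unique (((TopCat.Sheaf.pushforward (Type u) i).obj F).presheaf.stalk x)) := by
  obtain ⟨G, hG⟩ : ∃ G, ((TopCat.Sheaf.pushforward (Type u) i).obj F).presheaf = G := ⟨_, rfl⟩
  let C : Opens X := ⟨(Set.range i)ᶜ, hi.isOpen_compl⟩
  have hu : ∀ W : Opens X, W ≤ C → Nonempty (Unique (G.obj (op W))) := fun W hW =>
    hG ▸ unique_of_disjoint F fun z hz => hW hz ⟨z, rfl⟩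
  rw [hG]
  obtain ⟨u⟩ := hu C le_rfl
  refine ⟨⟨⟨G.germ C x hx u.default⟩, fun t => ?_⟩⟩
  obtain ⟨W, hxW, s, rfl⟩ := G.exists_germ_eq t
  obtain ⟨u'⟩ := hu (W ⊓ C) inf_le_right
  show G.germ W x hxW s = G.germ C x hx u.default
  rw [← G.germ_res_apply (homOfLE (inf_le_left : W ⊓ C ≤ W)) x ⟨hxW, hx⟩ s,
    ← G.germ_res_apply (homOfLE (inf_le_right : W ⊓ C ≤ C)) x ⟨hxW, hx⟩ u.default]
  exact congrArg _ ((u'.eq_default _).trans (u'.eq_default _).symm)

theorem isIso_counit (hi : Topology.IsInducing i) (F : Z.Sheaf (Type u)) :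
    IsIso ((TopCat.Sheaf.pullbackPushforwardAdjunction (Type u) i).counit.app F) := by
  have := pushforward_faithful hi
  have := pushforward_full hi
  infer_instance

/-- Families of germs of `G` along `i` which are locally given by sections of `G`. -/
noncomputable def germPred (i : Z ⟶ X) (G : X.Sheaf (Type u)) :
    TopCat.LocalPredicate (X := Z) (fun z => G.presheaf.stalk (i z)) where
  pred {V} f := ∀ z : V, ∃ (N : Opens Z) (W : Opens X) (_ : z.1 ∈ N) (_ : i z.1 ∈ W)
    (s : G.presheaf.obj (op W)),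
    ∀ (z' : V) (h : i z'.1 ∈ W), z'.1 ∈ N → f z' = G.presheaf.germ W (i z'.1) h s
  res {V V'} le f hf z := by
    obtain ⟨N, W, hN, hW, s, hs⟩ := hf ⟨z.1, le.le z.2⟩
    exact ⟨N, W, hN, hW, s, fun z' h h' => hs ⟨z'.1, le.le z'.2⟩ h h'⟩
  locality {V} f hf z := by
    obtain ⟨V', hzV', le, hV'⟩ := hf z
    obtain ⟨N, W, hN, hW, s, hs⟩ := hV' ⟨z.1, hzV'⟩
    exact ⟨N ⊓ V', W, ⟨hN, hzV'⟩, hW, s, fun z' h h' => hs ⟨z'.1, h'.2⟩ h h'.1⟩

theorem mem_essImage (hi : Topology.IsClosedEmbedding i) (G : X.Sheaf (Type u))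
    (h : ∀ x : X, x ∉ Set.range i → Nonempty (Unique (G.presheaf.stalk x))) :
    (TopCat.Sheaf.pushforward (Type u) i).essImage G := by
  let P := germPred i G
  let H : Z.Sheaf (Type u) := TopCat.subsheafToTypes P
  let H' : X.Sheaf (Type u) := (TopCat.Sheaf.pushforward (Type u) i).obj H
  let α : G ⟶ H' := ⟨
    { app := fun W => TypeCat.ofHom fun s : G.presheaf.obj W =>
        (⟨fun z => G.presheaf.germ W.unop (i z.1) z.2 s,
          fun z => ⟨⊤, W.unop, trivial, z.2, s, fun _ _ _ => rfl⟩⟩ :
          { f : ∀ z : ((Opens.map i).obj W.unop), G.presheaf.stalk (i z.1) // P.pred f })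
      naturality := fun W W' f => by
        refine ConcreteCategory.hom_ext _ _ fun s => Subtype.ext (funext fun z => ?_)
        exact G.presheaf.germ_res_apply f.unop _ _ s }⟩
  refine ⟨H, ⟨(@asIso _ _ _ _ α ?_).symm⟩⟩
  have : ∀ x : X, IsIso ((TopCat.Presheaf.stalkFunctor (Type u) x).map α.1) := by
    intro x
    rw [isIso_iff_bijective]
    by_cases hx : x ∈ Set.range i
    · obtain ⟨z, rfl⟩ := hx
      constructor
      · intro a b hab
        obtain ⟨W, hW, s, rfl⟩ := G.presheaf.exists_germ_eq a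
        obtain ⟨W', hW', t, rfl⟩ := G.presheaf.exists_germ_eq b
        erw [TopCat.Presheaf.stalkFunctor_map_germ_apply,
          TopCat.Presheaf.stalkFunctor_map_germ_apply] at hab
        obtain ⟨U, hU, i₁, i₂, e⟩ := H'.presheaf.germ_eq (i z) hW hW' _ _ hab
        have := congrFun (congrArg Subtype.val e) ⟨z, hU⟩
        exact this
      · intro t
        obtain ⟨W, hW, f, rfl⟩ := H'.presheaf.exists_germ_eq t
        obtain ⟨f, hf⟩ := f
        obtain ⟨N, W₁, hN, hW₁, s, hs⟩ := hf ⟨z, hW⟩
        obtain ⟨M, hM⟩ := map_surjective i hi.isInducing N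
        subst hM
        let W₂ : Opens X := W ⊓ W₁ ⊓ M
        have hz : i z ∈ W₂ := ⟨⟨hW, hW₁⟩, hN⟩
        refine ⟨G.presheaf.germ W₁ (i z) hW₁ s, ?_⟩
        erw [TopCat.Presheaf.stalkFunctor_map_germ_apply]
        refine H'.presheaf.germ_ext W₂ hz (homOfLE (inf_le_left.trans inf_le_right))
          (homOfLE (inf_le_left.trans inf_le_left)) (Subtype.ext (funext fun z' => ?_))
        exact (hs ⟨z'.1, z'.2.1.1⟩ z'.2.1.2 z'.2.2).symm
    · obtain ⟨u₁⟩ := h x hx
      obtain ⟨u₂⟩ := stalk_unique hi.isClosed_range H hx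
      exact ⟨fun a b _ => (u₁.eq_default a).trans (u₁.eq_default b).symm,
        fun t => ⟨u₁.default, (u₂.eq_default _).trans (u₂.eq_default t).symm⟩⟩
  exact TopCat.Presheaf.isIso_of_stalkFunctor_map_iso α

theorem essImage_iff (hi : Topology.IsClosedEmbedding i) (G : X.Sheaf (Type u)) :
    (TopCat.Sheaf.pushforward (Type u) i).essImage G ↔
      ∀ x : X, x ∉ Set.range i → Nonempty (Unique (G.presheaf.stalk x)) := by
  refine ⟨?_, mem_essImage hi G⟩
  rintro ⟨F, ⟨e⟩⟩ x hx
  obtain ⟨u⟩ := stalk_unique hi.isClosed_range F hx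
  haveI : Unique ((TopCat.Presheaf.stalkFunctor (Type u) x).obj ((TopCat.Sheaf.forget (Type u) X).obj
    ((TopCat.Sheaf.pushforward (Type u) i).obj F))) := u
  exact ⟨(((TopCat.Presheaf.stalkFunctor (Type u) x).mapIso
    ((TopCat.Sheaf.forget (Type u) X).mapIso e)).toEquiv).symm.unique⟩

section OpenSub

variable {X : TopCat.{u}} (U : Opens X)

theorem functor_map_obj {V : Opens X} (hV : V ≤ U) :
    U.isOpenEmbedding.isOpenMap.functor.obj ((Opens.map U.inclusion').obj V) = V :=
  Opens.ext (Set.image_preimage_eq_of_subset fun x hx => ⟨⟨x, hV hx⟩, rfl⟩)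

/-- The subterminal sheaf attached to an open subset. -/
noncomputable def subterminal : TopCat.LocalPredicate (X := X) (fun _ => PUnit.{u+1}) where
  pred {V} _ := V ≤ U
  res le _ h := le.le.trans h
  locality {V} _ hf := fun x hx => by
    obtain ⟨V', hxV', -, hV'⟩ := hf ⟨x, hx⟩
    exact hV' hxV'

variable (L : (TopCat.of U).Sheaf (Type u) ⥤ X.Sheaf (Type u))
  (adj : L ⊣ U.sheafRestrict (C := Type u))

include adj

theorem left_fullyFaithful : L.Full ∧ L.Faithful := by
  let adj₂ : U.sheafRestrict (C := Type u) ⊣ TopCat.Sheaf.pushforward (Type u) U.inclusion' :=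
    (TopCat.Sheaf.pullbackPushforwardAdjunction (Type u) U.inclusion').ofNatIsoLeft
      (U.isOpenEmbedding.sheafPullbackIso (Type u))
  have := pushforward_full (i := U.inclusion') U.isOpenEmbedding.isInducing
  have := pushforward_faithful (i := U.inclusion') U.isOpenEmbedding.isInducing
  let h := (Adjunction.Triple.fullyFaithfulEquiv ⟨adj, adj₂⟩).symm
    (@Functor.FullyFaithful.ofFullyFaithful _ _ _ _ _
      (pushforward_full (i := U.inclusion') U.isOpenEmbedding.isInducing)
      (pushforward_faithful (i := U.inclusion') U.isOpenEmbedding.isInducing))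
  exact ⟨h.full, h.faithful⟩

theorem stalk_isEmpty (F : (TopCat.of U).Sheaf (Type u)) {x : X} (hx : x ∉ U) :
    IsEmpty ((L.obj F).presheaf.stalk x) := by
  let T : X.Sheaf (Type u) := TopCat.subsheafToTypes (subterminal U)
  let f : F ⟶ (U.sheafRestrict (C := Type u)).obj T := ⟨
    { app := fun V => TypeCat.ofHom fun _ =>
        (⟨fun _ => PUnit.unit, fun x hx => by
          obtain ⟨y, -, rfl⟩ := hx
          exact y.2⟩ : { f : ∀ _ : (U.isOpenEmbedding.isOpenMap.functor.obj V.unop),
            PUnit.{u+1} // (subterminal U).pred f })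
      naturality := fun _ _ _ => rfl }⟩
  let g : L.obj F ⟶ T := (adj.homEquiv F T).symm f
  refine ⟨fun t => ?_⟩
  obtain ⟨W, hW, s, -⟩ := (L.obj F).presheaf.exists_germ_eq t
  exact hx ((g.hom.app (op W) s).2 hW)

theorem mem_essImage_left (G : X.Sheaf (Type u))
    (h : ∀ x : X, x ∉ U → IsEmpty (G.presheaf.stalk x)) : L.essImage G := by
  obtain ⟨hf, hff⟩ := left_fullyFaithful U L adj
  let ε := adj.counit.app G
  have hunit : IsIso adj.unit := @Adjunction.unit_isIso_of_L_fully_faithful _ _ _ _ _ _ adj hf hff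
  have : IsIso (adj.unit.app ((U.sheafRestrict (C := Type u)).obj G)) :=
    @NatIso.isIso_app_of_isIso _ _ _ _ _ _ adj.unit hunit _
  have hR : IsIso ((U.sheafRestrict (C := Type u)).map ε) :=
    @isIso_of_hom_comp_eq_id _ _ _ _ _ this _ (adj.right_triangle_components G)
  have hV : ∀ V : Opens X, V ≤ U → Function.Bijective (ε.hom.app (op V)) := by
    intro V hVU
    have : IsIso (((U.sheafRestrict (C := Type u)).map ε).hom.app
        (op ((Opens.map U.inclusion').obj V))) :=
      (((sheafToPresheaf _ _).mapIso (@asIso _ _ _ _ _ hR)).app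
        (op ((Opens.map U.inclusion').obj V))).isIso_hom
    have h2 : IsIso (ε.hom.app (op (U.isOpenEmbedding.isOpenMap.functor.obj
        ((Opens.map U.inclusion').obj V)))) := this
    rw [functor_map_obj U hVU] at h2
    exact (isIso_iff_bijective _).mp h2
  refine ⟨_, ⟨@asIso _ _ _ _ ε ?_⟩⟩
  let G' : X.Sheaf (Type u) := L.obj ((U.sheafRestrict (C := Type u)).obj G)
  have : ∀ x : X, IsIso ((TopCat.Presheaf.stalkFunctor (Type u) x).map ε.1) := by
    intro x
    rw [isIso_iff_bijective]
    by_cases hx : x ∈ U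
    · constructor
      · intro a b hab
        obtain ⟨W, hW, s, rfl⟩ := G'.presheaf.exists_germ_eq a
        obtain ⟨W', hW', t, rfl⟩ := G'.presheaf.exists_germ_eq b
        erw [TopCat.Presheaf.stalkFunctor_map_germ_apply,
          TopCat.Presheaf.stalkFunctor_map_germ_apply] at hab
        obtain ⟨V, hxV, i₁, i₂, e⟩ := G.presheaf.germ_eq x hW hW' _ _ hab
        refine G'.presheaf.germ_ext (V ⊓ U) ⟨hxV, hx⟩ (homOfLE inf_le_left ≫ i₁)
          (homOfLE inf_le_left ≫ i₂) ((hV _ inf_le_right).1 ?_)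
        refine (NatTrans.naturality_apply ε.hom _ s).trans
          (Eq.trans ?_ (NatTrans.naturality_apply ε.hom _ t).symm)
        rw [op_comp, op_comp]
        exact (Functor.map_comp_apply G.obj i₁.op (homOfLE inf_le_left).op _).trans
          ((congrArg (G.presheaf.map (homOfLE (inf_le_left : V ⊓ U ≤ V)).op) e).trans
            (Functor.map_comp_apply G.obj i₂.op (homOfLE inf_le_left).op _).symm)
      · intro t
        obtain ⟨W, hW, s, rfl⟩ := G.presheaf.exists_germ_eq t
        obtain ⟨s', hs'⟩ := (hV (W ⊓ U) inf_le_right).2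
          (G.presheaf.map (homOfLE inf_le_left).op s)
        refine ⟨G'.presheaf.germ (W ⊓ U) x ⟨hW, hx⟩ s', ?_⟩
        erw [TopCat.Presheaf.stalkFunctor_map_germ_apply]
        erw [hs']
        exact G.presheaf.germ_res_apply _ _ _ s
    · have h1 := stalk_isEmpty U L adj ((U.sheafRestrict (C := Type u)).obj G) hx
      have h2 := h x hx
      exact ⟨fun a => h1.elim a, fun t => h2.elim t⟩
  exact TopCat.Presheaf.isIso_of_stalkFunctor_map_iso ε

theorem left_essImage_iff (G : X.Sheaf (Type u)) :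
    L.essImage G ↔ ∀ x : X, x ∉ U → IsEmpty (G.presheaf.stalk x) := by
  refine ⟨?_, mem_essImage_left U L adj G⟩
  rintro ⟨F, ⟨e⟩⟩ x hx
  have : IsEmpty ((TopCat.Presheaf.stalkFunctor (Type u) x).obj
      ((TopCat.Sheaf.forget (Type u) X).obj (L.obj F))) := stalk_isEmpty U L adj F hx
  exact (((TopCat.Presheaf.stalkFunctor (Type u) x).mapIso
    ((TopCat.Sheaf.forget (Type u) X).mapIso e)).toEquiv).symm.isEmpty

end OpenSub

end Groth.Agent.ShSpLib
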